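import Groth.Agent.H54.SmoothPerf
import Groth.Agent.H54.TorDimHom
import Groth.Agent.Lib.Cyc.SheafLen
import Groth.Prelude.Def_DerSch

/-! Finite tor dimension at stalks: bridge to modules and descent to a localized polynomial ring. -/

set_option autoImplicit false
universe u

open CategoryTheory CategoryTheory.Limits CategoryTheory.Pretriangulated AlgebraicGeometry
open Groth.Agent.Lib.DR
open Groth.Agent.Lib.DR.Basic Groth.Agent.Lib.DR.FiniteComplex Groth.Agent.Lib.DR.PseudoCoherent
open Groth.Agent.Lib.DR.TorAmp Groth.Agent.Lib.DR.BaseChange Groth.Agent.Lib.DR.Representative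
open Groth.Agent.H54.PCRestrict

attribute [local instance] HasDerivedCategory.standard

noncomputable section

namespace Groth.Agent.Lib.H75.TorFactor.Ring

/-- A bounded flat representative of an object concentrated in degrees `≤ 0` can be trimmed at `0`. -/
theorem bdd_flat_trim {A : Type u} [CommRing A] {K : Dual.D A} {a b : ℤ} (hK : K.IsLE 0)
    (h : Bdd (flat A) a b K) : Bdd (flat A) a 0 K := by
  obtain ⟨G, hG, hGp, ⟨e⟩⟩ := ba_free hK
  exact (bdd_flat_of_isGE_tens G hG (fun i => flat_of_free _ (hGp i)) (isGE_of_iso' e.symm h.isGE)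
    fun M => isGE_tens_of_bdd M G hG (fun i => flat_of_free _ (hGp i)) (h.of_iso e.symm)).of_iso e

variable {X Y : Scheme.{u}} (f : X ⟶ Y) (x : X)

/-- The stalk complex of the structure sheaf is the local ring in degree zero. -/
theorem hasTorAmplitudeAt_unitCx_iff (a b : ℤ) :
    DerSch.HasTorAmplitudeAt f a b (DerSch.unitCx X) x ↔
      Bdd (flat (Y.presheaf.stalk (f x))) a b ((sgl (Y.presheaf.stalk (f x)) 0).obj
        ((res (f.stalkMap x).hom).obj (ModuleCat.of (X.presheaf.stalk x) (X.presheaf.stalk x)))) := by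
  obtain ⟨e⟩ := Groth.Agent.Lib.Cyc.SheafLen.exists_unit_stalk_equiv x
  let m : (DerSch.stalkOver f x).obj (Coh.structureModule X) ≅
      (res (f.stalkMap x).hom).obj (ModuleCat.of (X.presheaf.stalk x) (X.presheaf.stalk x)) :=
    (ModuleCat.restrictScalars (f.stalkMap x).hom).mapIso e.toModuleIso
  let i : DRing.toD ((DerSch.stalkCxOver f x).obj (DerSch.unitCx X)) ≅
      (sgl (Y.presheaf.stalk (f x)) 0).obj
        ((res (f.stalkMap x).hom).obj (ModuleCat.of (X.presheaf.stalk x) (X.presheaf.stalk x))) :=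
    DerivedCategory.Q.mapIso ((HomologicalComplex.singleMapHomologicalComplex (DerSch.stalkOver f x)
        (ComplexShape.up ℤ) 0).app (Coh.structureModule X)) ≪≫
      ((DerivedCategory.singleFunctorIsoCompQ _ 0).app _).symm ≪≫ (sgl _ 0).mapIso m
  exact (hasTorAmplitudeIn_iff (A := Y.presheaf.stalk (f x)) (K := DRing.toD _) (a := a) (b := b)).trans
    ⟨fun h => h.of_iso i, fun h => h.of_iso i.symm⟩

variable {R A B : Type u} [CommRing R] [CommRing A] [CommRing B]

/-- Finite tor dimension descends to a localization of a polynomial algebra. -/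
theorem bdd_flat_localized_poly (α : R →+* A) (β : A →+* B) {n : ℕ}
    (θ : MvPolynomial (Fin n) R →+* A) (hθ : θ.comp MvPolynomial.C = α)
    (M' : Submonoid (MvPolynomial (Fin n) R)) (hloc : @IsLocalization _ _ M' A _ θ.toAlgebra)
    {a b : ℤ} (h : Bdd (flat R) a b ((sgl R 0).obj ((res (β.comp α)).obj (ModuleCat.of B B)))) :
    Bdd (flat A) (min a 0 - n) 0 ((sgl A 0).obj ((res β).obj (ModuleCat.of B B))) := by
  let γ : MvPolynomial (Fin n) R →+* B := β.comp θ
  letI := θ.toAlgebra
  letI := γ.toAlgebra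
  letI := β.toAlgebra
  haveI : IsScalarTower (MvPolynomial (Fin n) R) A B := .of_algebraMap_eq fun _ => rfl
  haveI := hloc
  have h1 : Bdd (flat R) (min a 0) 0 ((sgl R 0).obj ((res (β.comp α)).obj (ModuleCat.of B B))) :=
    (bdd_flat_trim inferInstance h).mono (min_le_left a 0) le_rfl
  obtain ⟨d, hd⟩ : ∃ d : ℕ, min a 0 - (n : ℤ) = -(d : ℤ) := ⟨((n : ℤ) - min a 0).toNat, by lia⟩
  have hγ : γ.comp MvPolynomial.C = β.comp α := by rw [← hθ]; rfl
  have h2 : Bdd (flat (MvPolynomial (Fin n) R)) (min a 0 - n) 0 (Dual.inD (MvPolynomial (Fin n) R) B) :=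
    (Groth.Agent.H54.TorPoly.bdd_flat_mv γ (ModuleCat.of B B) _ (by rw [hγ]; exact h1)).of_iso
      ((sgl _ 0).mapIso (FlatBC.resEquiv (MvPolynomial (Fin n) R) B).toModuleIso)
  rw [hd] at h2 ⊢
  have h3 := Groth.Agent.H54.TorDimHom.hasTorDimLE_localization (A' := A) M' B ((TorDim.hasTorDimLE_iff B d).2 h2)
  exact ((TorDim.hasTorDimLE_iff (A := A) B d).1 h3).of_iso
    ((sgl A 0).mapIso (FlatBC.resEquiv A B).toModuleIso).symm

/-- Transport along an isomorphism of local rings. -/
theorem bdd_flat_res_equiv {C : Type u} [CommRing C] (σ : B →+* C) (hσ : Function.Bijective σ) (β : A →+* B)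
    {a b : ℤ} (h : Bdd (flat A) a b ((sgl A 0).obj ((res β).obj (ModuleCat.of B B)))) :
    Bdd (flat A) a b ((sgl A 0).obj ((res (σ.comp β)).obj (ModuleCat.of C C))) := by
  let e : ((res β).obj (ModuleCat.of B B)) ≃ₗ[A] ((res (σ.comp β)).obj (ModuleCat.of C C)) :=
    { (RingEquiv.ofBijective σ hσ).toAddEquiv with
      map_smul' := fun r y => map_mul σ (β r) (show B from y) }
  exact h.of_iso ((sgl A 0).mapIso e.toModuleIso)

end Groth.Agent.Lib.H75.TorFactor.Ring
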